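import Groth.Prelude.Def_W4c5t1liftcy3defoArt
import Mathlib

set_option autoImplicit false
universe u v

open CategoryTheory Polynomial ArtFun ArtFun.Art

set_option maxHeartbeats 400000

/-!
# The test extensions of the `T¹`-lifting criterion
-/

namespace Groth.Agent.H98T1

variable (k : Type u) [Field k] (n : ℕ)

open T1Lift

lemma eq_t_pow_mul_of_ker (a : Tr k (n + 1)) (h : αAlg k n a = 0) : ∃ c, a = t k (n + 1) ^ (n + 1) * c := by
  induction a using AdjoinRoot.induction_on with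
  | ih p =>
    have e : (αAlg k n) (AdjoinRoot.mk _ p) = AdjoinRoot.mk _ p := by
      rw [αAlg, AdjoinRoot.liftAlgHom_mk, ← AdjoinRoot.aeval_eq]
      rfl
    rw [e, AdjoinRoot.mk_eq_zero] at h
    obtain ⟨q, rfl⟩ := h
    exact ⟨AdjoinRoot.mk _ q, by rw [map_mul, map_pow, AdjoinRoot.mk_X]⟩

lemma t_pow_ne_zero : t k n ^ n ≠ 0 := by
  rw [t, ← AdjoinRoot.mk_X, ← map_pow, Ne, AdjoinRoot.mk_eq_zero]
  intro h
  have := Polynomial.natDegree_le_of_dvd h (pow_ne_zero n X_ne_zero)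
  simp at this

lemma t_pow_of_le {m : ℕ} (h : n + 1 ≤ m) : t k n ^ m = 0 := by
  obtain ⟨j, rfl⟩ := Nat.exists_eq_add_of_le h
  rw [pow_add, t_pow, zero_mul]

lemma mul_ker_α (x a : Tr k (n + 1)) (hx : resA k (n + 1) x = 0) (ha : αAlg k n a = 0) : x * a = 0 := by
  obtain ⟨c, rfl⟩ := eq_t_pow_mul_of_ker k n a ha
  obtain ⟨b, hb⟩ := eq_algebraMap_add_t_mul k (n + 1) x
  rw [hb, hx, map_zero, zero_add, show t k (n + 1) * b * (t k (n + 1) ^ (n + 1) * c) = t k (n + 1) ^ (n + 1 + 1) * (b * c) by ring,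
    t_pow, zero_mul]

lemma isSemismallExt_α : IsSemismallExt (α k n) := by
  refine ⟨fun y => ?_, ?_⟩
  · show ∃ a : Tr k (n + 1), αAlg k n a = y
    induction y using AdjoinRoot.induction_on with
    | ih p =>
      refine ⟨AdjoinRoot.mk _ p, ?_⟩
      rw [αAlg, AdjoinRoot.liftAlgHom_mk, ← AdjoinRoot.aeval_eq]
      rfl
  · rw [eq_bot_iff]
    refine Ideal.mul_le.mpr fun x hx z hz => ?_
    rw [Ideal.mem_bot]
    rw [mem_maximalIdeal_iff] at hx
    exact mul_ker_α k n x z hx hz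

/-- The kernel of `B_(n+1) → B_n × A_(n+1)`. -/
noncomputable def K : Ideal (B k (n + 1)) := RingHom.ker (ξ k n).toAlgHom ⊓ RingHom.ker (β k (n + 1)).toAlgHom

lemma K_le_max : K k n ≤ IsLocalRing.maximalIdeal (B k (n + 1)) :=
  inf_le_right.trans (IsLocalRing.le_maximalIdeal (RingHom.ker_ne_top _))

/-- The fibre product `B_n ×_(A_n) A_(n+1)`. -/
noncomputable abbrev C : Art k k := quot (B k (n + 1)) (K k n) (K_le_max k n)

/-- The projection to `B_n`. -/
noncomputable def p₁ : C k n ⟶ B k n := quotFactor (K_le_max k n) (ξ k n) inf_le_left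

/-- The projection to `A_(n+1)`. -/
noncomputable def p₂ : C k n ⟶ A k (n + 1) := quotFactor (K_le_max k n) (β k (n + 1)) inf_le_right

lemma isFibreProd : IsFibreProd (p₁ k n) (p₂ k n) (β k n) (α k n) where
  w := Art.hom_ext (AlgHom.ext fun x => by
    obtain ⟨x, rfl⟩ := Ideal.Quotient.mk_surjective x
    rfl)
  inj x y h1 h2 := by
    obtain ⟨x, rfl⟩ := Ideal.Quotient.mk_surjective x
    obtain ⟨y, rfl⟩ := Ideal.Quotient.mk_surjective y
    refine Ideal.Quotient.eq.mpr ⟨?_, ?_⟩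
    · exact RingHom.mem_ker.mpr ((map_sub (ξ k n).toAlgHom x y).trans (sub_eq_zero.mpr h1))
    · exact RingHom.mem_ker.mpr ((map_sub (β k (n + 1)).toAlgHom x y).trans (sub_eq_zero.mpr h2))
  surj a' a'' h := by
    obtain ⟨s, hs⟩ := (isSemismallExt_α k n).1 (a' : DualNumber (Tr k n)).snd
    let z : DualNumber (Tr k (n + 1)) := TrivSqZeroExt.inl (a'' : Tr k (n + 1)) + TrivSqZeroExt.inr (s : Tr k (n + 1))
    have hz1 : z.fst = a'' := (TrivSqZeroExt.fst_add _ _).trans (add_zero _)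
    have hz2 : z.snd = s := (TrivSqZeroExt.snd_add _ _).trans (zero_add _)
    refine ⟨Ideal.Quotient.mk (K k n) z, ?_, ?_⟩
    · refine TrivSqZeroExt.ext ?_ ?_
      · exact (congrArg (αAlg k n) hz1).trans h.symm
      · exact (congrArg (αAlg k n) hz2).trans hs
    · exact hz1

lemma dual_mul_eq_zero (x z : DualNumber (Tr k (n + 1))) (hx : resA k (n + 1) x.fst = 0) (hz2 : z.fst = 0)
    (hz1 : αAlg k n z.snd = 0) : x * z = 0 := by
  refine TrivSqZeroExt.ext ?_ ?_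
  · rw [TrivSqZeroExt.fst_mul, hz2, mul_zero, TrivSqZeroExt.fst_zero]
  · rw [DualNumber.snd_mul, hz2, mul_zero, add_zero, mul_ker_α k n _ _ hx hz1, TrivSqZeroExt.snd_zero]

lemma isSemismallExt_quotMk : IsSemismallExt (quotMk (B k (n + 1)) (K k n) (K_le_max k n)) := by
  refine ⟨quotMk_surjective _ _ _, ?_⟩
  rw [eq_bot_iff]
  refine Ideal.mul_le.mpr fun x hx z hz => ?_
  rw [Ideal.mem_bot]
  rw [mem_maximalIdeal_iff] at hx
  have hzK : z ∈ K k n := Ideal.Quotient.eq_zero_iff_mem.mp hz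
  obtain ⟨h1, h2⟩ := hzK
  exact dual_mul_eq_zero k n x z hx (RingHom.mem_ker.mp h2) (congrArg TrivSqZeroExt.snd (RingHom.mem_ker.mp h1))

lemma gen_pow_mem : (TrivSqZeroExt.inl (t k (n + 1)) + DualNumber.eps : DualNumber (Tr k (n + 1))) ^ (n + 2) ∈ K k n := by
  have h1 : ((TrivSqZeroExt.inl (t k (n + 1)) + DualNumber.eps : DualNumber (Tr k (n + 1))) ^ (n + 2)).fst = 0 := by
    simp [t_pow_of_le k (n + 1) le_rfl]
  refine ⟨RingHom.mem_ker.mpr (TrivSqZeroExt.ext ?_ ?_), RingHom.mem_ker.mpr h1⟩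
  · show αAlg k n _ = 0
    exact (congrArg (αAlg k n) h1).trans (map_zero _)
  · show αAlg k n _ = 0
    simp [TrivSqZeroExt.snd_pow, t_pow_of_le k n le_rfl]

lemma gen_fst : (TrivSqZeroExt.inl (t k n) + DualNumber.eps : DualNumber (Tr k n)).fst = t k n := by simp

/-- The map `A_(n+1) → C`, `t ↦ t + y`. -/
noncomputable def gAlg : Tr k (n + 1) →ₐ[k] C k n :=
  AdjoinRoot.liftAlgHom _ (Algebra.ofId k _)
    (Ideal.Quotient.mk (K k n) (TrivSqZeroExt.inl (t k (n + 1)) + DualNumber.eps : DualNumber (Tr k (n + 1)))) (by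
      rw [eval₂_X_pow]
      exact (map_pow (Ideal.Quotient.mk (K k n)) _ _).symm.trans (Ideal.Quotient.eq_zero_iff_mem.mpr (gen_pow_mem k n)))

/-- The map `A_(n+1) → C` in `Art`. -/
noncomputable def g : A k (n + 1) ⟶ C k n :=
  homMk (gAlg k n) (AdjoinRoot.algHom_ext (by
    show (C k n).res (gAlg k n (t k (n + 1))) = resA k (n + 1) (t k (n + 1))
    rw [gAlg, AdjoinRoot.liftAlgHom_root]
    exact congrArg (resA k (n + 1)) (gen_fst k (n + 1))))

lemma g_p₁ : g k n ≫ p₁ k n = ε k n := by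
  refine Art.hom_ext (AdjoinRoot.algHom_ext ?_)
  show (p₁ k n).toAlgHom (gAlg k n (t k (n + 1))) = εAlg k n (t k (n + 1))
  rw [gAlg, AdjoinRoot.liftAlgHom_root, εAlg_t]
  show dualMap k (αAlg k n) _ = _
  refine TrivSqZeroExt.ext ?_ ?_
  · show αAlg k n _ = _; simp
  · show αAlg k n _ = _; simp

lemma g_p₂ : g k n ≫ p₂ k n = 𝟙 _ := by
  refine Art.hom_ext (AdjoinRoot.algHom_ext ?_)
  show (p₂ k n).toAlgHom (gAlg k n (t k (n + 1))) = t k (n + 1)
  rw [gAlg, AdjoinRoot.liftAlgHom_root]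
  show TrivSqZeroExt.fst (_ : DualNumber (Tr k (n + 1))) = _
  simp

lemma α_g : α k (n + 1) ≫ g k n = ε k (n + 1) ≫ quotMk (B k (n + 1)) (K k n) (K_le_max k n) := by
  refine Art.hom_ext (AdjoinRoot.algHom_ext ?_)
  show gAlg k n (αAlg k (n + 1) (t k (n + 1 + 1))) = Ideal.Quotient.mk (K k n) (εAlg k (n + 1) (t k (n + 1 + 1)))
  rw [αAlg_t, εAlg_t, gAlg, AdjoinRoot.liftAlgHom_root]

lemma ε_β : ε k n ≫ β k n = α k n := by
  refine Art.hom_ext (AdjoinRoot.algHom_ext ?_)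
  show TrivSqZeroExt.fst (εAlg k n (t k (n + 1))) = αAlg k n (t k (n + 1))
  simp

lemma ε_ξ : ε k (n + 1) ≫ ξ k n = α k (n + 1) ≫ ε k n := by
  refine Art.hom_ext (AdjoinRoot.algHom_ext ?_)
  show dualMap k (αAlg k n) (εAlg k (n + 1) (t k (n + 1 + 1))) = εAlg k n (αAlg k (n + 1) (t k (n + 1 + 1)))
  rw [αAlg_t, εAlg_t, εAlg_t]
  refine TrivSqZeroExt.ext ?_ ?_
  · show αAlg k n _ = _; simp
  · show αAlg k n _ = _; simp

variable [CharZero k]

lemma eq_zero_of_ε (j : Tr k (n + 2)) (hj : αAlg k (n + 1) j = 0) (h : εAlg k (n + 1) j = 0) : j = 0 := by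
  obtain ⟨c, rfl⟩ := eq_t_pow_mul_of_ker k (n + 1) j hj
  obtain ⟨b, hb⟩ := eq_algebraMap_add_t_mul k (n + 2) c
  have hs := congrArg TrivSqZeroExt.snd h
  rw [map_mul, map_pow, εAlg_t, DualNumber.snd_mul] at hs
  simp [TrivSqZeroExt.snd_pow, t_pow_of_le k (n + 1) le_rfl] at hs
  have hc : (εAlg k (n + 1) c).fst = αAlg k (n + 1) c :=
    DFunLike.congr_fun (congrArg ArtFun.Art.Hom.toAlgHom (ε_β k (n + 1))) c
  rw [hc] at hs
  have hunit : IsUnit ((n : Tr k (n + 1)) + 1 + 1) := by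
    have : IsUnit (algebraMap k (Tr k (n + 1)) ((n : k) + 1 + 1)) :=
      IsUnit.map _ (Ne.isUnit (by exact_mod_cast (Nat.succ_ne_zero (n + 1))))
    simpa [map_add, map_natCast] using this
  have h0 : t k (n + 1) ^ (n + 1) * αAlg k (n + 1) c = 0 := by
    apply hunit.mul_right_cancel (c := 0) ?_
    rw [zero_mul]
    linear_combination hs
  have hc0 : resA k (n + 2) c = 0 := by
    rw [hb, map_add, map_mul, AlgHom.commutes, αAlg_t, mul_add, ← mul_assoc, ← pow_succ, t_pow, zero_mul, add_zero] at h0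
    by_contra hne
    exact t_pow_ne_zero k (n + 1) ((((Ne.isUnit hne).map (algebraMap k (Tr k (n + 1)))).mul_left_eq_zero).mp h0)
  rw [hb, hc0, map_zero, zero_add, ← mul_assoc, ← pow_succ, t_pow, zero_mul]

/-- The lifting criterion. -/
theorem lifts_iff (F : Art k k ⥤ Type v)
    (hRS : ∀ ⦃P A A' A'' : Art k k⦄ (p' : P ⟶ A') (p'' : P ⟶ A'') (f' : A' ⟶ A) (f'' : A'' ⟶ A)
      (h : IsFibreProd p' p'' f' f''), Function.Surjective f'' → Function.Bijective (cmp F h))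
    (V : Type u) [AddCommGroup V] [Module k V] (O : ObsTheory F V)
    (hnat : ∀ ⦃A' A C' C : Art k k⦄ (φ : A' ⟶ A) (hφ : IsSemismallExt φ)
      (ψ : C' ⟶ C) (hψ : IsSemismallExt ψ) (g' : A' ⟶ C') (g : A ⟶ C), φ ≫ g = g' ≫ ψ →
      ∀ (ℓ : ↥(RingHom.ker φ.toAlgHom) →ₗ[k] ↥(RingHom.ker ψ.toAlgHom)),
        (∀ j : ↥(RingHom.ker φ.toAlgHom), ((ℓ j : ↥(RingHom.ker ψ.toAlgHom)) : C') = g' (j : A')) →
        ∀ u : F.obj A, O.obs ψ hψ (F.map g u) = LinearMap.lTensor V ℓ (O.obs φ hφ u))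
    (X : F.obj (A k (n + 1))) :
    (∃ X' : F.obj (A k (n + 2)), F.map (α k (n + 1)) X' = X) ↔
      ∃ Y : F.obj (B k (n + 1)), F.map (β k (n + 1)) Y = X ∧ F.map (ξ k n) Y = F.map (ε k n) X := by
  have hm : ∀ {P Q R : Art k k} (a : P ⟶ Q) (b : Q ⟶ R) (u : F.obj P), F.map b (F.map a u) = F.map (a ≫ b) u :=
    fun a b u => by rw [F.map_comp]; rfl
  constructor
  · rintro ⟨X', rfl⟩
    exact ⟨F.map (ε k (n + 1)) X', by rw [hm, ε_β], by rw [hm, hm, ε_ξ]⟩
  · rintro ⟨Y, hY1, hY2⟩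
    set ψ := quotMk (B k (n + 1)) (K k n) (K_le_max k n)
    have hφ := isSemismallExt_α k (n + 1)
    rw [← O.obs_eq_zero_iff _ hφ]
    have hcmp : F.map ψ Y = F.map (g k n) X := by
      apply (hRS _ _ _ _ (isFibreProd k n) (isSemismallExt_α k n).1).1
      refine FibProd.ext ?_ ?_
      · show F.map (p₁ k n) _ = F.map (p₁ k n) _
        rw [hm, hm, g_p₁, ← hY2]
        rfl
      · show F.map (p₂ k n) _ = F.map (p₂ k n) _
        rw [hm, hm, g_p₂, show F.map (𝟙 _) X = X by rw [F.map_id]; rfl]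
        exact hY1
    have hobs : O.obs ψ (isSemismallExt_quotMk k n) (F.map (g k n) X) = 0 :=
      (O.obs_eq_zero_iff _ _ _).mpr ⟨Y, hcmp⟩
    let ℓ : ↥(RingHom.ker (α k (n + 1)).toAlgHom) →ₗ[k] ↥(RingHom.ker ψ.toAlgHom) :=
      { toFun := fun j => ⟨(ε k (n + 1)).toAlgHom j.1, by
          rw [RingHom.mem_ker]
          have := DFunLike.congr_fun (congrArg ArtFun.Art.Hom.toAlgHom (α_g k n)) j.1
          exact this.symm.trans (by rw [comp_toAlgHom, AlgHom.comp_apply, RingHom.mem_ker.mp j.2, map_zero])⟩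
        map_add' := fun x y => Subtype.ext (map_add _ _ _)
        map_smul' := fun r x => Subtype.ext (map_smul (ε k (n + 1)).toAlgHom r x.1) }
    have hℓ : Function.Injective ℓ := by
      rw [injective_iff_map_eq_zero]
      intro j hj
      exact Subtype.ext (eq_zero_of_ε k n _ (RingHom.mem_ker.mp j.2) (congrArg Subtype.val hj))
    have h := hnat _ hφ _ (isSemismallExt_quotMk k n) (ε k (n + 1)) (g k n) (α_g k n) ℓ (fun j => rfl) X
    rw [hobs] at h
    exact Module.Flat.lTensor_preserves_injective_linearMap (M := V) ℓ hℓ (by rw [← h, map_zero])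

end Groth.Agent.H98T1
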